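import Cfsg.Agent.S0079

/-!
# Elements of a Sylow subgroup with a single conjugate in it, and counting classes of p-elements

* `isolatedElts P`: the subgroup of elements of `P` having no other conjugate in `P`.
* `two_mul_card_pClasses_le`: `2 k_p(G) ≤ |P| + |isolatedElts P|`.
* `noFusion_of_lt_two`: `|P| < 2 k_2(G)` implies that `P` controls the fusion of its elements.
-/

set_option autoImplicit false

namespace Cfsg.Agent.IsolatedElts

universe u

/-- The classes of `p`-elements. -/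
abbrev PClasses (p : ℕ) (G : Type u) [Group G] : Type u :=
  {c : ConjClasses G // ∀ x ∈ c.carrier, ∃ k : ℕ, orderOf x = p ^ k}

/-- Conjugate elements of `P` are conjugate in `P`. -/
def NoFusion {G : Type u} [Group G] (P : Subgroup G) : Prop :=
  ∀ x ∈ P, ∀ y ∈ P, (∃ g : G, g * x * g⁻¹ = y) → ∃ h ∈ P, h * x * h⁻¹ = y

variable {G : Type u} [Group G] {p : ℕ}

/-- `x` lies in `P` and is its only conjugate there. -/
def IsIsolatedElt (P : Subgroup G) (x : G) : Prop :=
  x ∈ P ∧ ∀ g : G, g * x * g⁻¹ ∈ P → g * x * g⁻¹ = x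

theorem IsIsolatedElt.commute {P : Subgroup G} {x k : G} (hx : IsIsolatedElt P x) (hk : k ∈ P) :
    k * x = x * k := by
  have h := hx.2 k (P.mul_mem (P.mul_mem hk hx.1) (P.inv_mem hk))
  rw [mul_inv_eq_iff_eq_mul] at h
  exact h

theorem exists_conj_le [Finite G] [Fact p.Prime] (P : Sylow p G) {R : Subgroup G} (hR : IsPGroup p R) :
    ∃ k : G, ∀ r ∈ R, k⁻¹ * r * k ∈ (P : Subgroup G) := by
  obtain ⟨Q, hQ⟩ := hR.exists_le_sylow
  obtain ⟨g, hg⟩ := MulAction.exists_smul_eq G Q P
  refine ⟨g⁻¹, fun r hr => ?_⟩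
  rw [inv_inv, ← hg]
  exact Subgroup.smul_mem_pointwise_smul r (MulAut.conj g) _ (hQ hr)

theorem IsIsolatedElt.eq_of_mem_pGroup [Finite G] [Fact p.Prime] {P : Sylow p G} {x g : G}
    (hx : IsIsolatedElt (P : Subgroup G) x) {R : Subgroup G} (hR : IsPGroup p R) (hxR : x ∈ R)
    (hgR : g * x * g⁻¹ ∈ R) : g * x * g⁻¹ = x := by
  obtain ⟨k, hk⟩ := exists_conj_le P hR
  have h1 : k⁻¹ * x * k = x := by
    have := hx.2 k⁻¹ (by simpa using hk x hxR)
    simpa using this
  have h2 : k⁻¹ * (g * x * g⁻¹) * k = x := by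
    have := hx.2 (k⁻¹ * g) (by simpa [mul_assoc] using hk _ hgR)
    simpa [mul_assoc] using this
  have h3 : k⁻¹ * (g * x * g⁻¹) * k = k⁻¹ * x * k := h2.trans h1.symm
  exact mul_left_cancel (mul_right_cancel h3)

/-- A conjugation between elements of `P` can be chosen to fix all isolated elements. -/
theorem exists_adjust [Finite G] [Fact p.Prime] (P : Sylow p G) {a g : G} (ha : a ∈ (P : Subgroup G))
    (hb : g * a * g⁻¹ ∈ (P : Subgroup G)) :
    ∃ h : G, h * a * h⁻¹ = g * a * g⁻¹ ∧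
      ∀ x, IsIsolatedElt (P : Subgroup G) x → h * x * h⁻¹ = x := by
  set b := g * a * g⁻¹ with hbdef
  let C := Subgroup.centralizer ({b} : Set G)
  let A : Subgroup C :=
    (((P : Subgroup G) ⊓ Subgroup.centralizer ({a} : Set G)).map (MulAut.conj g).toMonoidHom).subgroupOf C
  let B : Subgroup C := ((P : Subgroup G) ⊓ C).subgroupOf C
  have hA : IsPGroup p A :=
    (((P.2.to_le inf_le_left).map _).to_le le_rfl).comap_subtype
  have hB : IsPGroup p B := (P.2.to_le inf_le_left).comap_subtype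
  obtain ⟨S₁, hS₁⟩ := hA.exists_le_sylow
  obtain ⟨S₂, hS₂⟩ := hB.exists_le_sylow
  obtain ⟨c, hc⟩ := MulAction.exists_smul_eq C S₁ S₂
  have hcb : (c : G) * b * (c : G)⁻¹ = b := by
    rw [Subgroup.mem_centralizer_singleton_iff.1 c.2, mul_inv_cancel_right]
  refine ⟨(c : G) * g, ?_, fun x hx => ?_⟩
  · calc (c : G) * g * a * ((c : G) * g)⁻¹ = (c : G) * (g * a * g⁻¹) * (c : G)⁻¹ := by group
      _ = b := hcb
  · have hxa : x ∈ Subgroup.centralizer ({a} : Set G) :=
      Subgroup.mem_centralizer_singleton_iff.2 (hx.commute ha).symm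
    have hxb : x ∈ C := Subgroup.mem_centralizer_singleton_iff.2 (hx.commute hb).symm
    have hgx : g * x * g⁻¹ ∈ C := by
      apply Subgroup.mem_centralizer_singleton_iff.2
      calc g * x * g⁻¹ * b = g * (x * a) * g⁻¹ := by rw [hbdef]; group
        _ = g * (a * x) * g⁻¹ := by rw [Subgroup.mem_centralizer_singleton_iff.1 hxa]
        _ = b * (g * x * g⁻¹) := by rw [hbdef]; group
    have h2 : (⟨x, hxb⟩ : C) ∈ (S₂ : Subgroup C) := hS₂ (Subgroup.mem_subgroupOf.2 ⟨hx.1, hxb⟩)
    have h1 : (c * ⟨g * x * g⁻¹, hgx⟩ * c⁻¹ : C) ∈ (S₂ : Subgroup C) := by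
      rw [← hc]
      exact Subgroup.smul_mem_pointwise_smul _ (MulAut.conj c) _
        (hS₁ (Subgroup.mem_subgroupOf.2 ⟨x, ⟨hx.1, hxa⟩, rfl⟩))
    refine hx.eq_of_mem_pGroup (S₂.2.map C.subtype) ⟨_, h2, rfl⟩ ⟨_, h1, ?_⟩
    show (c : G) * (g * x * g⁻¹) * (c : G)⁻¹ = _
    group

/-- The isolated elements form a subgroup. -/
def isolatedElts [Finite G] [Fact p.Prime] (P : Sylow p G) : Subgroup G where
  carrier := {x | IsIsolatedElt (P : Subgroup G) x}
  one_mem' := ⟨(P : Subgroup G).one_mem, fun g _ => by simp⟩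
  mul_mem' {x y} hx hy := by
    refine ⟨(P : Subgroup G).mul_mem hx.1 hy.1, fun g hg => ?_⟩
    obtain ⟨h, hh, hfix⟩ := exists_adjust P ((P : Subgroup G).mul_mem hx.1 hy.1) hg
    rw [← hh]
    calc h * (x * y) * h⁻¹ = (h * x * h⁻¹) * (h * y * h⁻¹) := by group
      _ = x * y := by rw [hfix x hx, hfix y hy]
  inv_mem' {x} hx := by
    refine ⟨(P : Subgroup G).inv_mem hx.1, fun g hg => ?_⟩
    have h1 : g * x⁻¹ * g⁻¹ = (g * x * g⁻¹)⁻¹ := by group
    rw [h1] at hg ⊢
    rw [hx.2 g ((Subgroup.inv_mem_iff _).1 hg)]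

theorem isolatedElts_le [Finite G] [Fact p.Prime] (P : Sylow p G) : isolatedElts P ≤ (P : Subgroup G) :=
  fun _ hx => hx.1

theorem exists_rep [Finite G] [Fact p.Prime] (P : Sylow p G) (c : PClasses p G) :
    ∃ x ∈ (P : Subgroup G), ConjClasses.mk x = c.1 := by
  obtain ⟨g, hg⟩ := ConjClasses.mk_surjective c.1
  obtain ⟨k, hk⟩ := c.2 g (ConjClasses.mem_carrier_iff_mk_eq.2 hg)
  obtain ⟨t, ht⟩ := exists_conj_le P
    (IsPGroup.of_card (p := p) (G := Subgroup.zpowers g) (n := k) (by rw [Nat.card_zpowers, hk]))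
  refine ⟨t⁻¹ * g * t, ht g (Subgroup.mem_zpowers g), ?_⟩
  rw [← hg, ConjClasses.mk_eq_mk_iff_isConj, isConj_iff]
  exact ⟨t, by group⟩

/-- `2 k_p(G) ≤ |P| + |isolatedElts P|`. -/
theorem two_mul_card_pClasses_le [Finite G] [Fact p.Prime] (P : Sylow p G) :
    2 * Nat.card (PClasses p G) ≤ Nat.card (P : Subgroup G) + Nat.card (isolatedElts P) := by
  classical
  choose r hrP hr using exists_rep P
  have hnot : ∀ c, ¬ IsIsolatedElt (P : Subgroup G) (r c) →
      ∃ y ∈ (P : Subgroup G), ConjClasses.mk y = c.1 ∧ y ≠ r c := by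
    intro c hc
    simp only [IsIsolatedElt, not_and, not_forall] at hc
    obtain ⟨g, hg, hne⟩ := hc (hrP c)
    refine ⟨_, hg, ?_, hne⟩
    rw [← hr c, ConjClasses.mk_eq_mk_iff_isConj, isConj_iff]
    exact ⟨g⁻¹, by group⟩
  choose r' hr'P hr' hr'ne using hnot
  let F : PClasses p G ⊕ PClasses p G → (P : Subgroup G) ⊕ isolatedElts P :=
    Sum.elim (fun c => Sum.inl ⟨r c, hrP c⟩)
      (fun c => if h : IsIsolatedElt (P : Subgroup G) (r c) then Sum.inr ⟨r c, h⟩
        else Sum.inl ⟨r' c h, hr'P c h⟩)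
  have hF : Function.Injective F := by
    rintro (c | c) (d | d) h <;> simp only [F, Sum.elim_inl, Sum.elim_inr] at h
    · have h' : r c = r d := congrArg Subtype.val (Sum.inl_injective h)
      exact congrArg Sum.inl (Subtype.ext (by rw [← hr c, ← hr d, h']))
    · split_ifs at h with hd
      have h' : r c = r' d hd := congrArg Subtype.val (Sum.inl_injective h)
      have hcd : c = d := Subtype.ext (by rw [← hr c, ← hr' d hd, h'])
      subst hcd
      exact absurd h'.symm (hr'ne c hd)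
    · split_ifs at h with hd
      have h' : r' c hd = r d := congrArg Subtype.val (Sum.inl_injective h)
      have hcd : c = d := Subtype.ext (by rw [← hr' c hd, ← hr d, h'])
      subst hcd
      exact absurd h' (hr'ne c hd)
    · split_ifs at h with hc hd hd
      · have h' : r c = r d := congrArg Subtype.val (Sum.inr_injective h)
        exact congrArg Sum.inr (Subtype.ext (by rw [← hr c, ← hr d, h']))
      · have h' : r' c hc = r' d hd := congrArg Subtype.val (Sum.inl_injective h)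
        exact congrArg Sum.inr (Subtype.ext (by rw [← hr' c hc, ← hr' d hd, h']))
  have := Nat.card_le_card_of_injective F hF
  rw [Nat.card_sum, Nat.card_sum] at this
  omega

/-- When `P` controls fusion the classes of `p`-elements are the classes of `P`. -/
theorem card_pClasses_of_noFusion [Finite G] [Fact p.Prime] (P : Sylow p G) (h : NoFusion (P : Subgroup G)) :
    Nat.card (PClasses p G) = Nat.card (ConjClasses (P : Subgroup G)) := by
  have hmem : ∀ c : ConjClasses (P : Subgroup G),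
      ∀ x ∈ (ConjClasses.map (P : Subgroup G).subtype c).carrier, ∃ k : ℕ, orderOf x = p ^ k := by
    intro c x hx
    obtain ⟨y, rfl⟩ := ConjClasses.mk_surjective c
    have hxy : IsConj x (y : G) := ConjClasses.mk_eq_mk_iff_isConj.1 (ConjClasses.mem_carrier_iff_mk_eq.1 hx)
    obtain ⟨k, hk⟩ := IsPGroup.iff_orderOf.1 P.2 y
    refine ⟨k, ?_⟩
    obtain ⟨g, hg⟩ := isConj_iff.1 hxy
    rw [← hk, ← Subgroup.orderOf_coe, ← hg]
    exact ((MulAut.conj g).orderOf_eq x).symm
  symm
  apply Nat.card_eq_of_bijective (fun c => (⟨_, hmem c⟩ : PClasses p G))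
  constructor
  · intro c d hcd
    obtain ⟨x, rfl⟩ := ConjClasses.mk_surjective c
    obtain ⟨y, rfl⟩ := ConjClasses.mk_surjective d
    obtain ⟨g, hg⟩ := isConj_iff.1 (ConjClasses.mk_eq_mk_iff_isConj.1 (congrArg Subtype.val hcd))
    obtain ⟨k, hk, hk'⟩ := h x x.2 y y.2 ⟨g, hg⟩
    exact ConjClasses.mk_eq_mk_iff_isConj.2 (isConj_iff.2 ⟨⟨k, hk⟩, Subtype.ext hk'⟩)
  · intro c
    obtain ⟨x, hx, hxc⟩ := exists_rep P c
    exact ⟨ConjClasses.mk ⟨x, hx⟩, Subtype.ext hxc⟩

theorem hasNormalPComplement_iff_noFusion [Finite G] [Fact p.Prime] (P : Sylow p G) :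
    Cfsg.HasNormalPComplement p G ↔ NoFusion (P : Subgroup G) := by
  refine Iff.trans ?_ (Cfsg.Agent.S0079.result (P : Subgroup G) P.2.isNilpotent P.card_coprime_index)
  exact ⟨fun h => (Transfer.hasNormalPComplement_iff_sylow P).mp h,
    fun ⟨N, hN, hc⟩ => ⟨P, N, hN, hc⟩⟩

/-- `|P| < 2 k₂(G)` forces `P` to control fusion. -/
theorem noFusion_of_lt_two : ∀ (n : ℕ) (G : Type u) [Group G] [Finite G] (P : Sylow 2 G),
    Nat.card G = n → Nat.card (P : Subgroup G) < 2 * Nat.card (PClasses 2 G) → NoFusion (P : Subgroup G) := by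
  intro n
  induction n using Nat.strong_induction_on with
  | _ n ih =>
    intro G _ _ P hn hk
    set W := isolatedElts P with hW
    by_cases hW1 : W = ⊥
    · have hb := two_mul_card_pClasses_le P
      rw [← hW, hW1, Subgroup.card_bot] at hb
      obtain ⟨m, hm⟩ := IsPGroup.iff_card.1 P.2
      rcases Nat.eq_zero_or_pos m with rfl | hmpos
      · have hbot : (P : Subgroup G) = ⊥ := Subgroup.card_eq_one.1 (by simpa using hm)
        intro x hx y hy hg
        rw [hbot, Subgroup.mem_bot] at hx hy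
        subst hx hy
        exact ⟨1, (P : Subgroup G).one_mem, by simp⟩
      · obtain ⟨j, hj⟩ := dvd_pow_self 2 (by omega : m ≠ 0)
        rw [hm, hj] at hb hk
        omega
    set H := Subgroup.centralizer (W : Set G) with hH
    have hPH : (P : Subgroup G) ≤ H := fun k hk x hx => (IsIsolatedElt.commute hx hk).symm
    set P₁ : Sylow 2 H := P.subtype hPH with hP₁
    set W₁ : Subgroup H := W.subgroupOf H with hW₁
    have hWH : W ≤ H := (isolatedElts_le P).trans hPH
    have hW₁c : ∀ w ∈ W₁, ∀ h : H, h * w = w * h := fun w hw h => Subtype.ext (h.2 w hw).symm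
    have : W₁.Normal := ⟨fun w hw h => by rw [hW₁c w hw h, mul_inv_cancel_right]; exact hw⟩
    set π := QuotientGroup.mk' W₁ with hπ
    set P₂ : Sylow 2 (H ⧸ W₁) := P₁.mapSurjective (QuotientGroup.mk'_surjective W₁) with hP₂
    -- classes lift with multiplicity at most `|W|`
    have hcount : Nat.card (PClasses 2 G) ≤ Nat.card (PClasses 2 (H ⧸ W₁)) * Nat.card W₁ := by
      choose r hrP hr using exists_rep (p := 2) P
      let cl : PClasses 2 G → PClasses 2 (H ⧸ W₁) := fun c => ⟨ConjClasses.mk (π ⟨r c, hPH (hrP c)⟩), by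
        intro x hx
        obtain ⟨g, hg⟩ := isConj_iff.1
          (ConjClasses.mk_eq_mk_iff_isConj.1 (ConjClasses.mem_carrier_iff_mk_eq.1 hx)).symm
        have h1 : orderOf x ∣ orderOf (r c) := by
          rw [← hg, show g * π ⟨r c, hPH (hrP c)⟩ * g⁻¹ = MulAut.conj g (π ⟨r c, hPH (hrP c)⟩) from rfl,
            MulEquiv.orderOf_eq]
          exact (orderOf_map_dvd π _).trans (by rw [Subgroup.orderOf_mk])
        obtain ⟨k, hk⟩ := IsPGroup.iff_orderOf.1 P.2 ⟨r c, hrP c⟩
        rw [Subgroup.orderOf_mk] at hk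
        obtain ⟨i, -, hi⟩ := (Nat.dvd_prime_pow Nat.prime_two).1 (hk ▸ h1)
        exact ⟨i, hi⟩⟩
      have hlift : ∀ c, ∃ w : W₁, IsConj (r c) (((cl c).1.exists_rep.choose.out * (w : H) : H) : G) := by
        intro c
        obtain ⟨g, hg⟩ := isConj_iff.1
          (ConjClasses.mk_eq_mk_iff_isConj.1 (cl c).1.exists_rep.choose_spec.symm)
        obtain ⟨h, rfl⟩ := QuotientGroup.mk'_surjective W₁ g
        set d := (cl c).1.exists_rep.choose.out with hd
        have h2 : (d⁻¹ * (h * ⟨r c, hPH (hrP c)⟩ * h⁻¹) : H) ∈ W₁ := by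
          rw [← QuotientGroup.eq, hd, QuotientGroup.out_eq', ← hg]
          rfl
        refine ⟨⟨_, h2⟩, isConj_iff.2 ⟨(h : G), ?_⟩⟩
        simp
      choose w hw using hlift
      rw [← Nat.card_prod]
      refine Nat.card_le_card_of_injective (fun c => (cl c, w c)) fun c d hcd => ?_
      simp only [Prod.mk.injEq] at hcd
      have h1 := hw c
      rw [hcd.1, hcd.2] at h1
      exact Subtype.ext (by
        rw [← hr c, ← hr d]
        exact ConjClasses.mk_eq_mk_iff_isConj.2 (h1.trans (hw d).symm))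
    have hW₁card : Nat.card W₁ = Nat.card W := Nat.card_congr (Subgroup.subgroupOfEquivOfLe hWH).toEquiv
    have hP₂card : Nat.card (P₂ : Subgroup (H ⧸ W₁)) * Nat.card W₁ = Nat.card (P : Subgroup G) := by
      have hker : W₁ ≤ (P₁ : Subgroup H) := fun w hw => isolatedElts_le P hw
      have h1 : Nat.card (P₁ : Subgroup H) = Nat.card (P : Subgroup G) :=
        Nat.card_congr (Subgroup.subgroupOfEquivOfLe hPH).toEquiv
      rw [← h1]
      let f := π.subgroupMap (P₁ : Subgroup H)
      have h3 : f.ker = W₁.subgroupOf (P₁ : Subgroup H) := by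
        ext x
        simp only [MonoidHom.mem_ker, Subgroup.mem_subgroupOf]
        rw [Subtype.ext_iff]
        exact (QuotientGroup.eq_one_iff _)
      have h4 : f.ker.index = Nat.card (P₂ : Subgroup (H ⧸ W₁)) := by
        rw [Subgroup.index_ker, MonoidHom.range_eq_top.2 (π.subgroupMap_surjective _),
          Nat.card_congr Subgroup.topEquiv.toEquiv]
        rfl
      rw [← Subgroup.card_mul_index f.ker, h4, h3,
        Nat.card_congr (Subgroup.subgroupOfEquivOfLe hker).toEquiv, mul_comm]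
    have hlt : Nat.card (H ⧸ W₁) < n := by
      rw [← hn, ← Subgroup.index_eq_card]
      have h1 := Subgroup.card_mul_index W₁
      have h2 : 1 < Nat.card W₁ := by
        rw [hW₁card]; exact (Subgroup.one_lt_card_iff_ne_bot W).2 hW1
      have h3 : Nat.card H ≤ Nat.card G := Subgroup.card_le_card_group H
      have h5 : 0 < W₁.index := Nat.pos_of_ne_zero Subgroup.index_ne_zero_of_finite
      nlinarith
    have hk₂ : Nat.card (P₂ : Subgroup (H ⧸ W₁)) < 2 * Nat.card (PClasses 2 (H ⧸ W₁)) := by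
      by_contra hcon
      push Not at hcon
      have := Nat.mul_le_mul_right (Nat.card W₁) hcon
      nlinarith
    obtain ⟨N, hN, hcompl⟩ := (Cfsg.Agent.S0079.result (P₂ : Subgroup (H ⧸ W₁)) P₂.2.isNilpotent
      P₂.card_coprime_index).2 (ih _ hlt (H ⧸ W₁) P₂ rfl hk₂)
    intro a ha b hb hab
    obtain ⟨g₀, rfl⟩ := hab
    obtain ⟨g, hg, hfix⟩ := exists_adjust P ha hb
    rw [← hg] at hb ⊢
    have hgH : g ∈ H := fun x hx => ((mul_inv_eq_iff_eq_mul).1 (hfix x hx)).symm
    set gH : H := ⟨g, hgH⟩ with hgHdef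
    obtain ⟨n', hn', y, hy, hny⟩ := Subgroup.mem_sup_of_normal_left.1
      (hcompl.sup_eq_top.symm ▸ Subgroup.mem_top (π gH))
    obtain ⟨x, hx, rfl⟩ := hy
    refine ⟨x, hx, ?_⟩
    set aH : H := ⟨a, hPH ha⟩ with haH
    set a' : H := x * aH * x⁻¹ with ha'
    set bH : H := ⟨g * a * g⁻¹, hPH hb⟩ with hbH
    set q : H := gH * x⁻¹ with hq
    have hqa : q * a' * q⁻¹ = bH := by
      rw [hq, ha']
      apply Subtype.ext
      simp [bH, gH, aH, mul_assoc]
    have hqN : π q ∈ N := by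
      rw [hq, map_mul, map_inv, ← hny, mul_inv_cancel_right]
      exact hn'
    -- `π a' = π bH`
    have hw : a'⁻¹ * bH ∈ W₁ := by
      rw [← QuotientGroup.eq]
      have h1 : π bH * (π a')⁻¹ ∈ N ⊓ (P₂ : Subgroup (H ⧸ W₁)) := by
        refine ⟨?_, Subgroup.mul_mem _ ⟨bH, hb, rfl⟩ (Subgroup.inv_mem _ ⟨a', ?_, rfl⟩)⟩
        · rw [← hqa, map_mul, map_mul, map_inv]
          have : π q * π a' * (π q)⁻¹ * (π a')⁻¹ = π q * (π a' * (π q)⁻¹ * (π a')⁻¹) := by group
          rw [this]
          exact N.mul_mem hqN (hN.conj_mem _ (N.inv_mem hqN) _)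
        · exact Subgroup.mul_mem _ (Subgroup.mul_mem _ hx ha) (Subgroup.inv_mem _ hx)
      rw [hcompl.disjoint.eq_bot, Subgroup.mem_bot, mul_inv_eq_one] at h1
      exact h1.symm
    set w₀ := a'⁻¹ * bH with hw₀
    have hwc : ∀ h : H, h * w₀ = w₀ * h := hW₁c w₀ hw
    have hpow : ∀ i : ℕ, q ^ i * a' * (q ^ i)⁻¹ = a' * w₀ ^ i := by
      intro i
      induction i with
      | zero => simp
      | succ i hi =>
        calc q ^ (i + 1) * a' * (q ^ (i + 1))⁻¹ = q * (q ^ i * a' * (q ^ i)⁻¹) * q⁻¹ := by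
              rw [pow_succ']; group
          _ = (q * a' * q⁻¹) * (q * w₀ ^ i * q⁻¹) := by rw [hi]; group
          _ = a' * w₀ * w₀ ^ i := by
              rw [hqa, ((show Commute q w₀ from hwc q).pow_right i).eq, mul_inv_cancel_right, hw₀,
                mul_inv_cancel_left]
          _ = a' * w₀ ^ (i + 1) := by rw [pow_succ', mul_assoc]
    have hqW : q ^ Nat.card N ∈ W₁ := by
      rw [← QuotientGroup.eq_one_iff]
      show π (q ^ Nat.card N) = 1
      rw [map_pow]
      exact congrArg Subtype.val (pow_card_eq_one' (x := (⟨π q, hqN⟩ : N)))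
    have hwm : w₀ ^ Nat.card N = 1 := by
      have h1 := hpow (Nat.card N)
      rw [← hW₁c _ hqW a', mul_inv_cancel_right] at h1
      exact (mul_eq_left.1 h1.symm)
    have hNodd : ¬ 2 ∣ Nat.card N := by
      have h1 : Nat.card N = (P₂ : Subgroup (H ⧸ W₁)).index := hcompl.index_eq_card.symm
      rw [h1]
      exact P₂.not_dvd_index
    have hw1 : w₀ = 1 := by
      obtain ⟨k, hk⟩ := IsPGroup.iff_orderOf.1 P.2 ⟨(w₀ : G), isolatedElts_le P hw⟩
      rw [Subgroup.orderOf_mk, Subgroup.orderOf_coe] at hk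
      have h1 : orderOf w₀ ∣ Nat.card N := orderOf_dvd_of_pow_eq_one hwm
      rw [hk] at h1
      rcases Nat.eq_zero_or_pos k with rfl | hkpos
      · simpa using hk
      · exact absurd ((dvd_pow_self 2 hkpos.ne').trans h1) hNodd
    have h2 : a' = bH := inv_mul_eq_one.1 hw1
    exact congrArg Subtype.val h2

end Cfsg.Agent.IsolatedElts
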